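import Mathlib

set_option autoImplicit false
universe u

open CategoryTheory Abelian

namespace Groth.Agent.H5.ExtLoc

variable {R : Type u} [CommRing R] (S : Submonoid R)

/-- An additive map from an `R`-module to an `S⁻¹R`-module exhibits the target as a localization. -/
def IsLoc {A A' : Type*} [AddCommGroup A] [Module R A] [AddCommGroup A']
    [Module (Localization S) A'] (f : A →+ A') : Prop :=
  (∀ y : A', ∃ (e : A) (s : S), algebraMap R (Localization S) (s : R) • y = f e) ∧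
  (∀ e : A, f e = 0 ↔ ∃ s : S, (s : R) • e = 0)

lemma smul_eq_zero_of_unit {A' : Type*} [AddCommGroup A'] [Module (Localization S) A'] (s : S)
    (y : A') (h : algebraMap R (Localization S) (s : R) • y = 0) : y = 0 := by
  have hu : IsUnit (algebraMap R (Localization S) (s : R)) := IsLocalization.map_units _ s
  have := congrArg (fun z => (hu.unit⁻¹ : (Localization S)ˣ).1 • z) h
  simpa [smul_smul] using this

/-- Right exactness for `IsLoc`. -/
theorem isLoc_of_rightExact {A₁ A₂ A₃ A₁' A₂' A₃' : Type*}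
    [AddCommGroup A₁] [Module R A₁] [AddCommGroup A₂] [Module R A₂] [AddCommGroup A₃] [Module R A₃]
    [AddCommGroup A₁'] [Module (Localization S) A₁'] [AddCommGroup A₂']
    [Module (Localization S) A₂'] [AddCommGroup A₃'] [Module (Localization S) A₃']
    (h : A₁ → A₂) (g : A₂ → A₃) (h' : A₁' → A₂') (g' : A₂' → A₃')
    (f₁ : A₁ →+ A₁') (f₂ : A₂ →+ A₂') (f₃ : A₃ →+ A₃')
    (h_smul : ∀ (r : R) a, h (r • a) = r • h a) (g_smul : ∀ (r : R) a, g (r • a) = r • g a)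
    (h'_smul : ∀ (r : Localization S) a, h' (r • a) = r • h' a)
    (g'_smul : ∀ (r : Localization S) a, g' (r • a) = r • g' a)
    (hf₂ : ∀ (r : R) a, f₂ (r • a) = algebraMap R (Localization S) r • f₂ a)
    (hf₃ : ∀ (r : R) a, f₃ (r • a) = algebraMap R (Localization S) r • f₃ a)
    (c₁ : ∀ a, f₂ (h a) = h' (f₁ a)) (c₂ : ∀ a, f₃ (g a) = g' (f₂ a))
    (hg : Function.Surjective g) (hg' : Function.Surjective g')
    (hgh : ∀ b, g (h b) = 0)
    (ex' : ∀ a, g' a = 0 → ∃ b, h' b = a)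
    (l₁ : ∀ y : A₁', ∃ (e : A₁) (s : S), algebraMap R (Localization S) (s : R) • y = f₁ e)
    (l₂ : IsLoc S f₂) : IsLoc S f₃ := by
  refine ⟨fun y₃ => ?_, fun e₃ => ⟨fun he => ?_, fun ⟨s, hs⟩ => ?_⟩⟩
  · obtain ⟨y₂, rfl⟩ := hg' y₃
    obtain ⟨e₂, s, hs⟩ := l₂.1 y₂
    exact ⟨g e₂, s, by rw [c₂, ← hs, g'_smul]⟩
  · obtain ⟨e₂, rfl⟩ := hg e₃
    rw [c₂] at he
    obtain ⟨y₁, hy₁⟩ := ex' _ he
    obtain ⟨e₁, s, hs⟩ := l₁ y₁
    have h0 : f₂ ((s : R) • e₂ - h e₁) = 0 := by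
      rw [map_sub, hf₂, c₁, ← hs, h'_smul, hy₁, sub_self]
    obtain ⟨t, ht⟩ := (l₂.2 _).mp h0
    refine ⟨t * s, ?_⟩
    have h1 : ((t * s : S) : R) • e₂ = h ((t : R) • e₁) := by
      rw [smul_sub, sub_eq_zero] at ht
      rw [h_smul, ← ht, Submonoid.coe_mul, mul_smul]
    rw [← g_smul, h1, hgh]
  · apply smul_eq_zero_of_unit S s
    rw [← hf₃, hs, map_zero]

end Groth.Agent.H5.ExtLoc
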