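import Mathlib
import Groth.Agent.Lib.Helper5.ExtLoc.A

set_option autoImplicit false
universe u

open CategoryTheory Abelian

namespace Groth.Agent.H5.ExtLoc

variable {R : Type u} [CommRing R] (S : Submonoid R)

lemma localizedModuleMap_smul_id (N : ModuleCat.{u} R) (r : R) :
    ModuleCat.localizedModuleMap S (r • 𝟙 N) =
      algebraMap R (Localization S) r • 𝟙 (N.localizedModule S) := by
  ext x
  rw [ModuleCat.localizedModuleMap_hom_apply, ModuleCat.hom_smul, ModuleCat.hom_id,
    map_smul, IsLocalizedModule.map_id, ModuleCat.hom_smul, ModuleCat.hom_id]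
  simp

lemma map_smul_id (N : ModuleCat.{u} R) (r : R) :
    (ModuleCat.localizedModuleFunctor.{u} S).map (r • 𝟙 N) =
      algebraMap R (Localization S) r • 𝟙 ((ModuleCat.localizedModuleFunctor.{u} S).obj N) :=
  localizedModuleMap_smul_id S N r

lemma mapExt_smul {M N : ModuleCat.{u} R} {i : ℕ} (r : R) (e : Ext M N i) :
    (ModuleCat.localizedModuleFunctor.{u} S).mapExtAddHom M N i (r • e) =
      algebraMap R (Localization S) r •
        (ModuleCat.localizedModuleFunctor.{u} S).mapExtAddHom M N i e := by
  rw [Functor.mapExtAddHom_apply, Functor.mapExtAddHom_apply, Ext.smul_eq_comp_mk₀,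
    Ext.mapExactFunctor_comp, Ext.mapExactFunctor_mk₀, map_smul_id, ← Ext.smul_eq_comp_mk₀]

end Groth.Agent.H5.ExtLoc
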