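import Mathlib
import Groth.Agent.Lib.Helper5.ExtLoc.B

set_option autoImplicit false
universe u

open CategoryTheory Abelian

namespace Groth.Agent.H5.ExtLoc

variable {R : Type u} [CommRing R] (S : Submonoid R)

lemma map_eq_zero_iff {M N : ModuleCat.{u} R} [Module.FinitePresentation R M] (φ : M ⟶ N) :
    (ModuleCat.localizedModuleFunctor.{u} S).map φ = 0 ↔ ∃ s : S, (s : R) • φ = 0 := by
  have h := IsLocalizedModule.eq_zero_iff S
    (IsLocalizedModule.mapExtendScalars S (M.localizedModuleMkLinearMap S)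
      (N.localizedModuleMkLinearMap S) (Localization S)) (m := φ.hom)
  constructor
  · intro h0
    have h1 : IsLocalizedModule.mapExtendScalars S (M.localizedModuleMkLinearMap S)
      (N.localizedModuleMkLinearMap S) (Localization S) φ.hom = 0 := by
      have := congrArg ModuleCat.Hom.hom h0
      exact this
    obtain ⟨s, hs⟩ := h.mp h1
    refine ⟨s, ?_⟩
    ext x
    exact LinearMap.congr_fun hs x
  · rintro ⟨s, hs⟩
    have h1 : (s : S) • φ.hom = 0 := congrArg ModuleCat.Hom.hom hs
    have h2 := h.mpr ⟨s, h1⟩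
    apply ModuleCat.hom_ext
    exact h2

lemma exists_smul_eq_map {M N : ModuleCat.{u} R} [Module.FinitePresentation R M]
    (ψ : (ModuleCat.localizedModuleFunctor.{u} S).obj M ⟶
      (ModuleCat.localizedModuleFunctor.{u} S).obj N) :
    ∃ (φ : M ⟶ N) (s : S), algebraMap R (Localization S) (s : R) • ψ =
      (ModuleCat.localizedModuleFunctor.{u} S).map φ := by
  obtain ⟨⟨φ, s⟩, hs⟩ := IsLocalizedModule.surj S
    (IsLocalizedModule.mapExtendScalars S (M.localizedModuleMkLinearMap S)
      (N.localizedModuleMkLinearMap S) (Localization S)) ψ.hom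
  refine ⟨ModuleCat.ofHom φ, s, ?_⟩
  apply ModuleCat.hom_ext
  change _ = IsLocalizedModule.mapExtendScalars S (M.localizedModuleMkLinearMap S)
      (N.localizedModuleMkLinearMap S) (Localization S) φ
  rw [← hs]
  ext x
  exact algebraMap_smul (Localization S) (s : R) (show N.localizedModule S from ψ.hom x)

theorem isLoc_zero (M N : ModuleCat.{u} R) [Module.FinitePresentation R M] :
    IsLoc S ((ModuleCat.localizedModuleFunctor.{u} S).mapExtAddHom M N 0) := by
  constructor
  · intro y
    obtain ⟨ψ, rfl⟩ := (Ext.mk₀_bijective _ _).2 y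
    obtain ⟨φ, s, hs⟩ := exists_smul_eq_map S ψ
    refine ⟨Ext.mk₀ φ, s, ?_⟩
    rw [Functor.mapExtAddHom_apply, Ext.mapExactFunctor_mk₀, ← hs, Ext.mk₀_smul]
  · intro e
    obtain ⟨φ, rfl⟩ := (Ext.mk₀_bijective _ _).2 e
    rw [Functor.mapExtAddHom_apply, Ext.mapExactFunctor_mk₀]
    rw [← Ext.mk₀_zero, (Ext.mk₀_bijective _ _).1.eq_iff, map_eq_zero_iff]
    refine exists_congr fun s => ?_
    rw [← Ext.mk₀_smul, ← Ext.mk₀_zero, (Ext.mk₀_bijective _ _).1.eq_iff]

end Groth.Agent.H5.ExtLoc
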