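import Mathlib
import Groth.Agent.Lib.Helper5.ExtLoc.C

set_option autoImplicit false
universe u

open CategoryTheory Abelian

namespace Groth.Agent.H5.ExtLoc

variable {R : Type u} [CommRing R] (S : Submonoid R)

/-- The localization of a projective module is a projective object. -/
lemma projective_obj (P : ModuleCat.{u} R) [Module.Projective R P] :
    Projective ((ModuleCat.localizedModuleFunctor.{u} S).obj P) := by
  haveI : Module.Projective (Localization S) (P.localizedModule S) :=
    Module.projective_of_isLocalizedModule S (P.localizedModuleMkLinearMap S)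
  exact ModuleCat.projective_of_categoryTheory_projective (P.localizedModule S)

attribute [local instance] Ext.subsingleton_of_projective in
theorem isLoc_ext [IsNoetherianRing R] (N : ModuleCat.{u} R) (i : ℕ) :
    ∀ (M : ModuleCat.{u} R) [Module.Finite R M],
      IsLoc S ((ModuleCat.localizedModuleFunctor.{u} S).mapExtAddHom M N i) := by
  induction i with
  | zero =>
    intro M _
    haveI : Module.FinitePresentation R M := Module.finitePresentation_of_finite R M
    exact isLoc_zero S M N
  | succ i ih =>
    intro M _
    obtain ⟨n, f, hf⟩ := Module.Finite.exists_fin' R M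
    let T : ShortComplex (ModuleCat.{u} R) :=
      ShortComplex.mk (ModuleCat.ofHom (LinearMap.ker f).subtype)
        (ModuleCat.ofHom (Y := M) f) (by ext x; exact x.2)
    have hT : T.ShortExact := by
      refine ShortComplex.ShortExact.mk' ?_ ?_ ?_
      · rw [ShortComplex.ShortExact.moduleCat_exact_iff_function_exact]
        exact LinearMap.exact_subtype_ker_map f
      · rw [ModuleCat.mono_iff_injective]
        exact Subtype.val_injective
      · rw [ModuleCat.epi_iff_surjective]
        exact hf
    haveI : Module.Finite R T.X₁ := by
      change Module.Finite R (LinearMap.ker f)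
      infer_instance
    haveI : Module.Finite R T.X₂ := by
      change Module.Finite R (Fin n → R)
      infer_instance
    haveI : Module.Projective R T.X₂ := by
      change Module.Projective R (Fin n → R)
      infer_instance
    haveI : Projective T.X₂ := ModuleCat.projective_of_categoryTheory_projective _
    haveI : Projective (T.map (ModuleCat.localizedModuleFunctor.{u} S)).X₂ :=
      projective_obj S T.X₂
    have hT' := hT.map_of_exact (ModuleCat.localizedModuleFunctor.{u} S)
    refine isLoc_of_rightExact S
      (fun x => (Ext.mk₀ T.f).comp x (zero_add i))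
      (fun x => hT.extClass.comp x (add_comm 1 i))
      (fun x => (Ext.mk₀ (T.map (ModuleCat.localizedModuleFunctor.{u} S)).f).comp x (zero_add i))
      (fun x => hT'.extClass.comp x (add_comm 1 i))
      ((ModuleCat.localizedModuleFunctor.{u} S).mapExtAddHom T.X₂ N i)
      ((ModuleCat.localizedModuleFunctor.{u} S).mapExtAddHom T.X₁ N i)
      ((ModuleCat.localizedModuleFunctor.{u} S).mapExtAddHom M N (i + 1))
      ?_ ?_ ?_ ?_ ?_ ?_ ?_ ?_ ?_ ?_ ?_ ?_ ?_ ?_
    · intro r a; exact Ext.comp_smul _ _ _ _
    · intro r a; exact Ext.comp_smul _ _ _ _
    · intro r a; exact Ext.comp_smul _ _ _ _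
    · intro r a; exact Ext.comp_smul _ _ _ _
    · intro r a; exact mapExt_smul S r a
    · intro r a; exact mapExt_smul S r a
    · intro a
      change ((Ext.mk₀ T.f).comp a (zero_add i)).mapExactFunctor
          (ModuleCat.localizedModuleFunctor.{u} S) =
        (Ext.mk₀ ((ModuleCat.localizedModuleFunctor.{u} S).map T.f)).comp
          (a.mapExactFunctor (ModuleCat.localizedModuleFunctor.{u} S)) (zero_add i)
      rw [Ext.mapExactFunctor_comp, Ext.mapExactFunctor_mk₀]
    · intro a
      change (hT.extClass.comp a (add_comm 1 i)).mapExactFunctor
          (ModuleCat.localizedModuleFunctor.{u} S) =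
        hT'.extClass.comp (a.mapExactFunctor (ModuleCat.localizedModuleFunctor.{u} S))
          (add_comm 1 i)
      rw [Ext.mapExactFunctor_comp, Ext.mapExactFunctor_extClass]
      rfl
    · intro x₃
      exact Ext.contravariant_sequence_exact₃ hT N x₃ (Subsingleton.elim _ _) (add_comm 1 i)
    · intro x₃
      exact Ext.contravariant_sequence_exact₃ hT' _ x₃ (Subsingleton.elim _ _) (add_comm 1 i)
    · intro b
      exact hT.extClass_comp_assoc b
    · intro a ha
      exact Ext.contravariant_sequence_exact₁ hT' _ a (add_comm 1 i) ha
    · exact (ih T.X₂).1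
    · exact ih T.X₁

end Groth.Agent.H5.ExtLoc
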